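import Cfsg.Agent.Spor.LyUKb.D0

set_option autoImplicit false
set_option maxRecDepth 100000000
set_option Elab.async false

namespace Cfsg.Agent.Spor.LyUKb

theorem ok0 : Net.okb 10 n0 = true := by decide +kernel

theorem ok1 : Net.okb 10 n1 = true := by decide +kernel

theorem ok2 : Net.okb 10 n2 = true := by decide +kernel

theorem ok3 : Net.okb 10 n3 = true := by decide +kernel

theorem rel0 : T.rel 10 [1, 1] 0 10 = true := by decide +kernel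

theorem rel1 : T.rel 10 [2, 2] 0 10 = true := by decide +kernel

theorem rel2 : T.rel 10 [3, 3] 0 10 = true := by decide +kernel

theorem rel3 : T.rel 10 [4, 4, 4] 0 10 = true := by decide +kernel

theorem rel4 : T.rel 10 [2, 4, 2, 4] 0 10 = true := by decide +kernel

theorem rel5 : T.rel 10 [3, 4, 3, 4, 3, 4] 0 10 = true := by decide +kernel

theorem rel6 : T.rel 10 [1, 2, 3, 4, 1, 4, 3, 2] 0 10 = true := by decide +kernel

theorem rel7 : T.rel 10 [2, 3, 2, 3, 2, 3, 4, 3, 2, 3, 2, 3, 2, 3, 4, 3] 0 10 = true := by decide +kernel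

theorem hcov : T.treeCov (ones 768) L 1 = true := by decide +kernel

theorem hg : lall (fun z => band (memL L z) (band (sub (ones 768) (T.let z).cl) (T.closed (ones 768) z))) gs = true := by decide +kernel

theorem rot1_1 : T.rot 1 [1] (sel (ones 768) ip1 1) = true := by decide +kernel

theorem rot1_1r : band (Rule.ok (2 * 3) EX RL ⟨1 :: [1], [], 5, false⟩) (lall (memL L) [1]) = true := by decide +kernel

theorem rot1_2 : T.rot 1 [2, 3, 4, 1, 4, 3, 2] (sel (ones 768) ip1 2) = true := by decide +kernel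

theorem rot1_2r : band (Rule.ok (2 * 3) EX RL ⟨1 :: [2, 3, 4, 1, 4, 3, 2], [], 3, true⟩) (lall (memL L) [2, 3, 4, 1, 4, 3, 2]) = true := by decide +kernel

theorem rot1_3 : T.rot 1 [4, 3, 2, 1, 2, 3, 4] (sel (ones 768) ip1 3) = true := by decide +kernel

theorem rot1_3r : band (Rule.ok (2 * 3) EX RL ⟨1 :: [4, 3, 2, 1, 2, 3, 4], [2, 4, 6, 0], 3, true⟩) (lall (memL L) [4, 3, 2, 1, 2, 3, 4]) = true := by decide +kernel

theorem rot1_4 : T.rot 1 [5, 3, 2, 1, 2, 3, 5] (sel (ones 768) ip1 4) = true := by decide +kernel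

theorem rot1_4r : band (Rule.ok (2 * 3) EX RL ⟨1 :: [5, 3, 2, 1, 2, 3, 5], [2, 4, 6], 3, false⟩) (lall (memL L) [5, 3, 2, 1, 2, 3, 5]) = true := by decide +kernel

theorem rot1_5 : T.rot 1 [2, 3, 5, 1, 5, 3, 2] (sel (ones 768) ip1 5) = true := by decide +kernel

theorem rot1_5r : band (Rule.ok (2 * 3) EX RL ⟨1 :: [2, 3, 5, 1, 5, 3, 2], [0], 3, false⟩) (lall (memL L) [2, 3, 5, 1, 5, 3, 2]) = true := by decide +kernel

theorem cov1 : T.cover 1 [(sel (ones 768) ip1 1), (sel (ones 768) ip1 2), (sel (ones 768) ip1 3), (sel (ones 768) ip1 4), (sel (ones 768) ip1 5)] = true := by decide +kernel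

theorem tl1 : T.treeLt 10 1 = true := by decide +kernel

theorem rot2_1 : T.rot 2 [2] (sel (ones 768) ip2 1) = true := by decide +kernel

theorem rot2_1r : band (Rule.ok (2 * 3) EX RL ⟨2 :: [2], [], 5, false⟩) (lall (memL L) [2]) = true := by decide +kernel

theorem rot2_2 : T.rot 2 [4, 2, 4] (sel (ones 768) ip2 2) = true := by decide +kernel

theorem rot2_2r : band (Rule.ok (2 * 3) EX RL ⟨2 :: [4, 2, 4], [], 1, true⟩) (lall (memL L) [4, 2, 4]) = true := by decide +kernel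

theorem rot2_3 : T.rot 2 [5, 2, 5] (sel (ones 768) ip2 3) = true := by decide +kernel

theorem rot2_3r : band (Rule.ok (2 * 3) EX RL ⟨2 :: [5, 2, 5], [2], 1, false⟩) (lall (memL L) [5, 2, 5]) = true := by decide +kernel

theorem rot2_4 : T.rot 2 [3, 2, 3, 2, 3, 4, 3, 2, 3, 2, 3, 2, 3, 4, 3] (sel (ones 768) ip2 4) = true := by decide +kernel

theorem rot2_4r : band (Rule.ok (2 * 3) EX RL ⟨2 :: [3, 2, 3, 2, 3, 4, 3, 2, 3, 2, 3, 2, 3, 4, 3], [], 4, true⟩) (lall (memL L) [3, 2, 3, 2, 3, 4, 3, 2, 3, 2, 3, 2, 3, 4, 3]) = true := by decide +kernel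

theorem rot2_5 : T.rot 2 [3, 2, 3, 4, 3, 2, 3, 2, 3, 2, 3, 4, 3, 2, 3] (sel (ones 768) ip2 5) = true := by decide +kernel

theorem rot2_5r : band (Rule.ok (2 * 3) EX RL ⟨2 :: [3, 2, 3, 4, 3, 2, 3, 2, 3, 2, 3, 4, 3, 2, 3], [2, 4], 4, true⟩) (lall (memL L) [3, 2, 3, 4, 3, 2, 3, 2, 3, 2, 3, 4, 3, 2, 3]) = true := by decide +kernel

theorem rot2_6 : T.rot 2 [3, 4, 3, 2, 3, 2, 3, 2, 3, 4, 3, 2, 3, 2, 3] (sel (ones 768) ip2 6) = true := by decide +kernel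

theorem rot2_6r : band (Rule.ok (2 * 3) EX RL ⟨2 :: [3, 4, 3, 2, 3, 2, 3, 2, 3, 4, 3, 2, 3, 2, 3], [4, 6, 4, 2], 4, true⟩) (lall (memL L) [3, 4, 3, 2, 3, 2, 3, 2, 3, 4, 3, 2, 3, 2, 3]) = true := by decide +kernel

theorem rot2_7 : T.rot 2 [3, 2, 3, 2, 3, 5, 3, 2, 3, 2, 3, 2, 3, 5, 3] (sel (ones 768) ip2 7) = true := by decide +kernel

theorem rot2_7r : band (Rule.ok (2 * 3) EX RL ⟨2 :: [3, 2, 3, 2, 3, 5, 3, 2, 3, 2, 3, 2, 3, 5, 3], [4, 6, 4], 4, false⟩) (lall (memL L) [3, 2, 3, 2, 3, 5, 3, 2, 3, 2, 3, 2, 3, 5, 3]) = true := by decide +kernel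

theorem rot2_8 : T.rot 2 [3, 2, 3, 5, 3, 2, 3, 2, 3, 2, 3, 5, 3, 2, 3] (sel (ones 768) ip2 8) = true := by decide +kernel

theorem rot2_8r : band (Rule.ok (2 * 3) EX RL ⟨2 :: [3, 2, 3, 5, 3, 2, 3, 2, 3, 2, 3, 5, 3, 2, 3], [2, 4, 2], 4, false⟩) (lall (memL L) [3, 2, 3, 5, 3, 2, 3, 2, 3, 2, 3, 5, 3, 2, 3]) = true := by decide +kernel

theorem rot2_9 : T.rot 2 [3, 5, 3, 2, 3, 2, 3, 2, 3, 5, 3, 2, 3, 2, 3] (sel (ones 768) ip2 9) = true := by decide +kernel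

theorem rot2_9r : band (Rule.ok (2 * 3) EX RL ⟨2 :: [3, 5, 3, 2, 3, 2, 3, 2, 3, 5, 3, 2, 3, 2, 3], [2], 4, false⟩) (lall (memL L) [3, 5, 3, 2, 3, 2, 3, 2, 3, 5, 3, 2, 3, 2, 3]) = true := by decide +kernel

theorem cov2 : T.cover 2 [(sel (ones 768) ip2 1), (sel (ones 768) ip2 2), (sel (ones 768) ip2 3), (sel (ones 768) ip2 4), (sel (ones 768) ip2 5), (sel (ones 768) ip2 6), (sel (ones 768) ip2 7), (sel (ones 768) ip2 8), (sel (ones 768) ip2 9)] = true := by decide +kernel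

theorem tl2 : T.treeLt 10 2 = true := by decide +kernel

theorem rot3_1 : T.rot 3 [3] (sel (ones 768) ip3 1) = true := by decide +kernel

theorem rot3_1r : band (Rule.ok (2 * 3) EX RL ⟨3 :: [3], [], 5, false⟩) (lall (memL L) [3]) = true := by decide +kernel

theorem rot3_2 : T.rot 3 [4, 3, 4, 3, 4] (sel (ones 768) ip3 2) = true := by decide +kernel

theorem rot3_2r : band (Rule.ok (2 * 3) EX RL ⟨3 :: [4, 3, 4, 3, 4], [], 2, true⟩) (lall (memL L) [4, 3, 4, 3, 4]) = true := by decide +kernel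

theorem rot3_3 : T.rot 3 [5, 3, 5, 3, 5] (sel (ones 768) ip3 3) = true := by decide +kernel

theorem rot3_3r : band (Rule.ok (2 * 3) EX RL ⟨3 :: [5, 3, 5, 3, 5], [4], 2, false⟩) (lall (memL L) [5, 3, 5, 3, 5]) = true := by decide +kernel

theorem rot3_4 : T.rot 3 [2, 3, 2, 3, 4, 3, 2, 3, 2, 3, 2, 3, 4, 3, 2] (sel (ones 768) ip3 4) = true := by decide +kernel

theorem rot3_4r : band (Rule.ok (2 * 3) EX RL ⟨3 :: [2, 3, 2, 3, 4, 3, 2, 3, 2, 3, 2, 3, 4, 3, 2], [2], 4, true⟩) (lall (memL L) [2, 3, 2, 3, 4, 3, 2, 3, 2, 3, 2, 3, 4, 3, 2]) = true := by decide +kernel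

theorem rot3_5 : T.rot 3 [2, 3, 4, 3, 2, 3, 2, 3, 2, 3, 4, 3, 2, 3, 2] (sel (ones 768) ip3 5) = true := by decide +kernel

theorem rot3_5r : band (Rule.ok (2 * 3) EX RL ⟨3 :: [2, 3, 4, 3, 2, 3, 2, 3, 2, 3, 4, 3, 2, 3, 2], [2, 4, 2], 4, true⟩) (lall (memL L) [2, 3, 4, 3, 2, 3, 2, 3, 2, 3, 4, 3, 2, 3, 2]) = true := by decide +kernel

theorem rot3_6 : T.rot 3 [4, 3, 2, 3, 2, 3, 2, 3, 4, 3, 2, 3, 2, 3, 2] (sel (ones 768) ip3 6) = true := by decide +kernel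

theorem rot3_6r : band (Rule.ok (2 * 3) EX RL ⟨3 :: [4, 3, 2, 3, 2, 3, 2, 3, 4, 3, 2, 3, 2, 3, 2], [4, 6, 4], 4, true⟩) (lall (memL L) [4, 3, 2, 3, 2, 3, 2, 3, 4, 3, 2, 3, 2, 3, 2]) = true := by decide +kernel

theorem rot3_7 : T.rot 3 [2, 3, 2, 3, 2, 3, 4, 3, 2, 3, 2, 3, 2, 3, 4] (sel (ones 768) ip3 7) = true := by decide +kernel

theorem rot3_7r : band (Rule.ok (2 * 3) EX RL ⟨3 :: [2, 3, 2, 3, 2, 3, 4, 3, 2, 3, 2, 3, 2, 3, 4], [4], 4, true⟩) (lall (memL L) [2, 3, 2, 3, 2, 3, 4, 3, 2, 3, 2, 3, 2, 3, 4]) = true := by decide +kernel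

theorem rot3_8 : T.rot 3 [5, 3, 2, 3, 2, 3, 2, 3, 5, 3, 2, 3, 2, 3, 2] (sel (ones 768) ip3 8) = true := by decide +kernel

theorem rot3_8r : band (Rule.ok (2 * 3) EX RL ⟨3 :: [5, 3, 2, 3, 2, 3, 2, 3, 5, 3, 2, 3, 2, 3, 2], [], 4, false⟩) (lall (memL L) [5, 3, 2, 3, 2, 3, 2, 3, 5, 3, 2, 3, 2, 3, 2]) = true := by decide +kernel

theorem rot3_9 : T.rot 3 [2, 3, 2, 3, 2, 3, 5, 3, 2, 3, 2, 3, 2, 3, 5] (sel (ones 768) ip3 9) = true := by decide +kernel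

theorem rot3_9r : band (Rule.ok (2 * 3) EX RL ⟨3 :: [2, 3, 2, 3, 2, 3, 5, 3, 2, 3, 2, 3, 2, 3, 5], [4, 6], 4, false⟩) (lall (memL L) [2, 3, 2, 3, 2, 3, 5, 3, 2, 3, 2, 3, 2, 3, 5]) = true := by decide +kernel

theorem rot3_10 : T.rot 3 [2, 3, 2, 3, 5, 3, 2, 3, 2, 3, 2, 3, 5, 3, 2] (sel (ones 768) ip3 10) = true := by decide +kernel

theorem rot3_10r : band (Rule.ok (2 * 3) EX RL ⟨3 :: [2, 3, 2, 3, 5, 3, 2, 3, 2, 3, 2, 3, 5, 3, 2], [2, 4, 2, 4], 4, false⟩) (lall (memL L) [2, 3, 2, 3, 5, 3, 2, 3, 2, 3, 2, 3, 5, 3, 2]) = true := by decide +kernel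

theorem rot3_11 : T.rot 3 [2, 3, 5, 3, 2, 3, 2, 3, 2, 3, 5, 3, 2, 3, 2] (sel (ones 768) ip3 11) = true := by decide +kernel

theorem rot3_11r : band (Rule.ok (2 * 3) EX RL ⟨3 :: [2, 3, 5, 3, 2, 3, 2, 3, 2, 3, 5, 3, 2, 3, 2], [2, 4], 4, false⟩) (lall (memL L) [2, 3, 5, 3, 2, 3, 2, 3, 2, 3, 5, 3, 2, 3, 2]) = true := by decide +kernel

theorem cov3 : T.cover 3 [(sel (ones 768) ip3 1), (sel (ones 768) ip3 2), (sel (ones 768) ip3 3), (sel (ones 768) ip3 4), (sel (ones 768) ip3 5), (sel (ones 768) ip3 6), (sel (ones 768) ip3 7), (sel (ones 768) ip3 8), (sel (ones 768) ip3 9), (sel (ones 768) ip3 10), (sel (ones 768) ip3 11)] = true := by decide +kernel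

theorem tl3 : T.treeLt 10 3 = true := by decide +kernel

theorem rot4_1 : T.rot 4 [5] (sel (ones 768) ip4 1) = true := by decide +kernel

theorem rot4_1r : band (Rule.ok (2 * 3) EX RL ⟨4 :: [5], [], 5, false⟩) (lall (memL L) [5]) = true := by decide +kernel

theorem rot4_2 : T.rot 4 [4, 4] (sel (ones 768) ip4 2) = true := by decide +kernel

theorem rot4_2r : band (Rule.ok (2 * 3) EX RL ⟨4 :: [4, 4], [], 0, true⟩) (lall (memL L) [4, 4]) = true := by decide +kernel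

theorem rot4_3 : T.rot 4 [2, 4, 2] (sel (ones 768) ip4 3) = true := by decide +kernel

theorem rot4_3r : band (Rule.ok (2 * 3) EX RL ⟨4 :: [2, 4, 2], [6], 1, true⟩) (lall (memL L) [2, 4, 2]) = true := by decide +kernel

theorem rot4_4 : T.rot 4 [3, 4, 3, 4, 3] (sel (ones 768) ip4 4) = true := by decide +kernel

theorem rot4_4r : band (Rule.ok (2 * 3) EX RL ⟨4 :: [3, 4, 3, 4, 3], [6], 2, true⟩) (lall (memL L) [3, 4, 3, 4, 3]) = true := by decide +kernel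

theorem rot4_5 : T.rot 4 [3, 2, 3, 2, 3, 2, 3, 4, 3, 2, 3, 2, 3, 2, 3] (sel (ones 768) ip4 5) = true := by decide +kernel

theorem rot4_5r : band (Rule.ok (2 * 3) EX RL ⟨4 :: [3, 2, 3, 2, 3, 2, 3, 4, 3, 2, 3, 2, 3, 2, 3], [4, 6], 4, true⟩) (lall (memL L) [3, 2, 3, 2, 3, 2, 3, 4, 3, 2, 3, 2, 3, 2, 3]) = true := by decide +kernel

theorem cov4 : T.cover 4 [(sel (ones 768) ip4 1), (sel (ones 768) ip4 2), (sel (ones 768) ip4 3), (sel (ones 768) ip4 4), (sel (ones 768) ip4 5)] = true := by decide +kernel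

theorem tl4 : T.treeLt 10 4 = true := by decide +kernel

theorem rot5_1 : T.rot 5 [4] (sel (ones 768) ip5 1) = true := by decide +kernel

theorem rot5_1r : band (Rule.ok (2 * 3) EX RL ⟨5 :: [4], [], 5, false⟩) (lall (memL L) [4]) = true := by decide +kernel

theorem rot5_2 : T.rot 5 [5, 5] (sel (ones 768) ip5 2) = true := by decide +kernel

theorem rot5_2r : band (Rule.ok (2 * 3) EX RL ⟨5 :: [5, 5], [], 0, false⟩) (lall (memL L) [5, 5]) = true := by decide +kernel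

theorem rot5_3 : T.rot 5 [2, 5, 2] (sel (ones 768) ip5 3) = true := by decide +kernel

theorem rot5_3r : band (Rule.ok (2 * 3) EX RL ⟨5 :: [2, 5, 2], [], 1, false⟩) (lall (memL L) [2, 5, 2]) = true := by decide +kernel

theorem rot5_4 : T.rot 5 [3, 5, 3, 5, 3] (sel (ones 768) ip5 4) = true := by decide +kernel

theorem rot5_4r : band (Rule.ok (2 * 3) EX RL ⟨5 :: [3, 5, 3, 5, 3], [], 2, false⟩) (lall (memL L) [3, 5, 3, 5, 3]) = true := by decide +kernel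

theorem rot5_5 : T.rot 5 [3, 2, 3, 2, 3, 2, 3, 5, 3, 2, 3, 2, 3, 2, 3] (sel (ones 768) ip5 5) = true := by decide +kernel

theorem rot5_5r : band (Rule.ok (2 * 3) EX RL ⟨5 :: [3, 2, 3, 2, 3, 2, 3, 5, 3, 2, 3, 2, 3, 2, 3], [4], 4, false⟩) (lall (memL L) [3, 2, 3, 2, 3, 2, 3, 5, 3, 2, 3, 2, 3, 2, 3]) = true := by decide +kernel

theorem cov5 : T.cover 5 [(sel (ones 768) ip5 1), (sel (ones 768) ip5 2), (sel (ones 768) ip5 3), (sel (ones 768) ip5 4), (sel (ones 768) ip5 5)] = true := by decide +kernel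

theorem tl5 : T.treeLt 10 5 = true := by decide +kernel

end Cfsg.Agent.Spor.LyUKb
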